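import Mathlib
import Cfsg.Prelude.Def_Solvable
import Cfsg.Agent.Lib.Helper1.Coprime
import Cfsg.Agent.Lib.Helper1.CoprimeSylow
import Cfsg.Agent.Lib.Helper1.FrattiniAction
import Cfsg.Agent.Lib.Helper1.FittingCentralizer
import Cfsg.Agent.Lib.Helper1.SCN
import Cfsg.Agent.Lib.Helper2.Cores
import Cfsg.Agent.Lib.Helper8.AxB

/-!
# Cores of centralizers under a coprime operator group: the core-free case

Let `P` be a `p`-group normalizing the `p'`-group `H` with `⁅H, P⁆` solvable, and suppose `H` has no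
nontrivial normal `q'`-subgroup. If `z ∈ H` is a `q`-element and `X` is a `q'`-subgroup of `C_H(z)`
normalized by `C_H(z)`, then `X` centralizes `O_q(⁅H, P⁆)`; consequently `X ∩ ⁅H, P⁆ = 1`, and
`X ∩ W = 1` for every `q'`-subgroup `W` of `C_H(P)` normalized by `C_H(P)`.
-/

set_option autoImplicit false

namespace Cfsg.Agent.Lib.Helper5.CoprimeCore

open Cfsg
open scoped commutatorElement

universe u

variable {G : Type u} [Group G]

/-- `H` normalizes `⁅H, P⁆` -/
theorem le_normalizer_commutator_left (H P : Subgroup G) :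
    H ≤ Subgroup.normalizer ((⁅H, P⁆ : Subgroup G) : Set G) := by
  apply Cfsg.Agent.Lib.Helper1.le_normalizer_of_conj_mem
  intro a ha
  have key : ⁅H, P⁆ ≤ (⁅H, P⁆).comap (MulAut.conj a).toMonoidHom := by
    rw [Subgroup.commutator_le]
    intro h hh b hb
    rw [Subgroup.mem_comap]
    show a * ⁅h, b⁆ * a⁻¹ ∈ ⁅H, P⁆
    have e : a * ⁅h, b⁆ * a⁻¹ = ⁅a * h, b⁆ * ⁅a, b⁆⁻¹ := by
      simp only [commutatorElement_def]
      group
    rw [e]
    exact mul_mem (Subgroup.commutator_mem_commutator (mul_mem ha hh) hb)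
      (inv_mem (Subgroup.commutator_mem_commutator ha hb))
  intro x hx
  exact key hx

theorem commutator_le_left_of_le_normalizer {H P : Subgroup G}
    (hPH : P ≤ Subgroup.normalizer (H : Set G)) : ⁅H, P⁆ ≤ H := by
  rw [Subgroup.commutator_le]
  intro h hh a ha
  have h1 : a * h⁻¹ * a⁻¹ ∈ H :=
    (Subgroup.mem_normalizer_iff.mp (hPH ha) h⁻¹).mp (H.inv_mem hh)
  have e : ⁅h, a⁆ = h * (a * h⁻¹ * a⁻¹) := by
    rw [commutatorElement_def]
    group
  rw [e]
  exact H.mul_mem hh h1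

theorem core_lemma [Finite G] (p q : ℕ) [hp : Fact p.Prime] [hq : Fact q.Prime]
    (H P : Subgroup G) (hPH : P ≤ Subgroup.normalizer (H : Set G)) (hP : IsPGroup p P)
    (hH : (Nat.card H).Coprime p) (hL : Group.IsSolvable ↥⁅H, P⁆)
    (z : G) (hzH : z ∈ H) (hz : ∃ k : ℕ, orderOf z = q ^ k)
    (hOq : ∀ M : Subgroup G, M ≤ H → H ≤ Subgroup.normalizer (M : Set G) →
      (Nat.card M).Coprime q → M = ⊥)
    (X : Subgroup G) (hXH : X ≤ H) (hXz : X ≤ Subgroup.centralizer ({z} : Set G))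
    (hXn : H ⊓ Subgroup.centralizer ({z} : Set G) ≤ Subgroup.normalizer (X : Set G))
    (hXq : (Nat.card X).Coprime q)
    (W : Subgroup G) (hWH : W ≤ H)
    (hWn : H ⊓ Subgroup.centralizer (P : Set G) ≤ Subgroup.normalizer (W : Set G))
    (hWq : (Nat.card W).Coprime q) :
    X ⊓ ⁅H, P⁆ = ⊥ ∧ X ⊓ W = ⊥ := by
  classical
  obtain ⟨L, hLdef⟩ : ∃ L : Subgroup G, L = ⁅H, P⁆ := ⟨_, rfl⟩
  rw [← hLdef] at hL ⊢
  have hLH : L ≤ H := by rw [hLdef]; exact commutator_le_left_of_le_normalizer hPH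
  have hHL : H ≤ Subgroup.normalizer (L : Set G) := by
    rw [hLdef]; exact le_normalizer_commutator_left H P
  -- `O_{q'}(L) = 1`
  have hLq' : pPrimeCore q ↥L = ⊥ := by
    have hchar : (pPrimeCore q ↥L).Characteristic :=
      Cfsg.Agent.Lib.Helper2.pPrimeCore_characteristic q
    have h1 := hOq ((pPrimeCore q ↥L).map L.subtype) ((Subgroup.map_subtype_le _).trans hLH)
      (hHL.trans (Cfsg.Agent.Lib.Helper1.normalizer_le_normalizer_map_characteristic L
        (pPrimeCore q ↥L)))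
      (by rw [Subgroup.card_map_of_injective L.subtype_injective]
          exact Cfsg.Agent.Lib.Helper2.pPrimeCore_card_coprime q)
    exact (Subgroup.map_eq_bot_iff_of_injective _ L.subtype_injective).mp h1
  -- `Q₀ = O_q(L)`
  obtain ⟨Q₀, hQ₀def⟩ : ∃ Q₀ : Subgroup G, Q₀ = (pCore q ↥L).map L.subtype := ⟨_, rfl⟩
  have hQ₀L : Q₀ ≤ L := by rw [hQ₀def]; exact Subgroup.map_subtype_le _
  have hQ₀q : IsPGroup q Q₀ := by
    rw [hQ₀def]; exact (Cfsg.Agent.Lib.Helper2.pCore_isPGroup q).map _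
  have hHQ₀ : H ≤ Subgroup.normalizer (Q₀ : Set G) := by
    have hchar : (pCore q ↥L).Characteristic := Cfsg.Agent.Lib.Helper2.pCore_characteristic q
    rw [hQ₀def]
    exact hHL.trans (Cfsg.Agent.Lib.Helper1.normalizer_le_normalizer_map_characteristic L
      (pCore q ↥L))
  have hCLQ₀ : L ⊓ Subgroup.centralizer (Q₀ : Set G) ≤ Q₀ := by
    intro l hl
    have h1 := Cfsg.Agent.Lib.Helper1.centralizer_pCore_le (G := ↥L) q hLq'
    have h2 : (⟨l, hl.1⟩ : ↥L) ∈ Subgroup.centralizer (pCore q ↥L : Set ↥L) := by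
      rw [Subgroup.mem_centralizer_iff]
      intro y hy
      apply Subtype.ext
      have := Subgroup.mem_centralizer_iff.mp hl.2 (y : G) (by rw [hQ₀def]; exact ⟨y, hy, rfl⟩)
      exact this
    have h3 := h1 h2
    rw [hQ₀def]
    exact ⟨_, h3, rfl⟩
  obtain ⟨j, hj⟩ := IsPGroup.iff_card.mp hQ₀q
  have hXQ₀ : X ⊓ Q₀ = ⊥ := by
    apply disjoint_iff.mp
    apply Subgroup.disjoint_of_coprime_natCard
    rw [hj]
    exact Nat.Coprime.pow_right j hXq
  -- `X` centralizes `C_{Q₀}(z)`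
  have h4 : Q₀ ⊓ Subgroup.centralizer ((Subgroup.zpowers z : Subgroup G) : Set G)
      ≤ Subgroup.centralizer (X : Set G) := by
    intro y hy
    rw [Subgroup.mem_centralizer_iff]
    intro x hx
    have hyH : y ∈ H := hLH (hQ₀L hy.1)
    have hyz : y ∈ Subgroup.centralizer ({z} : Set G) := by
      rw [Subgroup.mem_centralizer_iff]
      intro w hw
      rw [Set.mem_singleton_iff] at hw
      subst hw
      exact Subgroup.mem_centralizer_iff.mp hy.2 w (Subgroup.mem_zpowers w)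
    have hyX : y ∈ Subgroup.normalizer (X : Set G) := hXn ⟨hyH, hyz⟩
    have hxQ : x ∈ Subgroup.normalizer (Q₀ : Set G) := hHQ₀ (hXH hx)
    have hc1 : x * y * x⁻¹ * y⁻¹ ∈ X := by
      have h5 := (Subgroup.mem_normalizer_iff.mp hyX x⁻¹).mp (X.inv_mem hx)
      have e : x * y * x⁻¹ * y⁻¹ = x * (y * x⁻¹ * y⁻¹) := by group
      rw [e]
      exact X.mul_mem hx h5
    have hc2 : x * y * x⁻¹ * y⁻¹ ∈ Q₀ := by
      have h5 := (Subgroup.mem_normalizer_iff.mp hxQ y).mp hy.1
      exact Q₀.mul_mem h5 (Q₀.inv_mem hy.1)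
    have hc : x * y * x⁻¹ * y⁻¹ = 1 := by
      have h5 : x * y * x⁻¹ * y⁻¹ ∈ X ⊓ Q₀ := ⟨hc1, hc2⟩
      rw [hXQ₀] at h5
      exact Subgroup.mem_bot.mp h5
    calc x * y = (x * y * x⁻¹ * y⁻¹) * (y * x) := by group
      _ = y * x := by rw [hc, one_mul]
  -- Thompson's `A × B` lemma
  have hB : IsPGroup q (Subgroup.zpowers z) := by
    obtain ⟨k, hk⟩ := hz
    apply IsPGroup.of_card (n := k)
    rw [Nat.card_zpowers, hk]
  have hXzp : X ≤ Subgroup.centralizer ((Subgroup.zpowers z : Subgroup G) : Set G) := by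
    intro x hx
    rw [Subgroup.mem_centralizer_iff]
    intro w hw
    obtain ⟨n, rfl⟩ := Subgroup.mem_zpowers_iff.mp hw
    have h5 : z * x = x * z :=
      Subgroup.mem_centralizer_iff.mp (hXz hx) z (Set.mem_singleton z)
    exact (Commute.zpow_left (show Commute z x from h5) n).eq
  have hAB : ⁅X, Subgroup.zpowers z⁆ = ⊥ :=
    Subgroup.commutator_eq_bot_iff_le_centralizer.mpr hXzp
  have hzQ₀ : Subgroup.zpowers z ≤ Subgroup.normalizer (Q₀ : Set G) := by
    rw [Subgroup.zpowers_le]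
    exact hHQ₀ hzH
  have h5 : ⁅Q₀, X⁆ = ⊥ :=
    Cfsg.Agent.Lib.Helper8.thompson_AxB q X (Subgroup.zpowers z) hB hXq hAB (Nat.card Q₀) Q₀ rfl
      hQ₀q (hXH.trans hHQ₀) hzQ₀ h4
  have hXC : X ≤ Subgroup.centralizer (Q₀ : Set G) := by
    have h6 : Q₀ ≤ Subgroup.centralizer (X : Set G) :=
      Subgroup.commutator_eq_bot_iff_le_centralizer.mp h5
    exact Subgroup.le_centralizer_iff.mp h6
  refine ⟨?_, ?_⟩
  · rw [eq_bot_iff]
    intro g hg
    have h6 : g ∈ Q₀ := hCLQ₀ ⟨hg.2, hXC hg.1⟩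
    have h7 : g ∈ X ⊓ Q₀ := ⟨hg.1, h6⟩
    rw [hXQ₀] at h7
    exact h7
  · -- `V = W ∩ C(Q₀)` is a normal `q'`-subgroup of `H`
    obtain ⟨V, hVdef⟩ : ∃ V : Subgroup G, V = W ⊓ Subgroup.centralizer (Q₀ : Set G) := ⟨_, rfl⟩
    have hVW : V ≤ W := by rw [hVdef]; exact inf_le_left
    have hVC : V ≤ Subgroup.centralizer (Q₀ : Set G) := by rw [hVdef]; exact inf_le_right
    have hHC : H ≤ Subgroup.normalizer ((Subgroup.centralizer (Q₀ : Set G) : Subgroup G) : Set G) :=
      hHQ₀.trans (Cfsg.Agent.Lib.Helper1.normalizer_le_normalizer_centralizer' Q₀)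
    have hPsolv : Group.IsSolvable ↥P := by
      have := hP.isNilpotent
      infer_instance
    have hcopPH : (Nat.card P).Coprime (Nat.card H) := by
      obtain ⟨i, hi⟩ := IsPGroup.iff_card.mp hP
      rw [hi]
      exact Nat.Coprime.pow_left i hH.symm
    have hsup := Cfsg.Agent.Lib.Helper1.coprime_commutator_sup_centralizer P H hPH hcopPH
      (Or.inl hPsolv)
    rw [← hLdef] at hsup
    have hV1 : H ⊓ Subgroup.centralizer (P : Set G) ≤ Subgroup.normalizer (V : Set G) := by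
      rw [hVdef]
      exact Cfsg.Agent.Lib.Helper1.le_normalizer_inf hWn (inf_le_left.trans hHC)
    have hV2 : L ≤ Subgroup.normalizer (V : Set G) := by
      apply Cfsg.Agent.Lib.Helper1.le_normalizer_of_conj_mem
      intro l hl v hv
      have hlH : l ∈ H := hLH hl
      have hvH : v ∈ H := hWH (hVW hv)
      have hcL : l * v * l⁻¹ * v⁻¹ ∈ L := by
        have h6 := (Subgroup.mem_normalizer_iff.mp (hHL hvH) l⁻¹).mp (L.inv_mem hl)
        have e : l * v * l⁻¹ * v⁻¹ = l * (v * l⁻¹ * v⁻¹) := by group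
        rw [e]
        exact L.mul_mem hl h6
      have hcC : l * v * l⁻¹ * v⁻¹ ∈ Subgroup.centralizer (Q₀ : Set G) := by
        have h6 := (Subgroup.mem_normalizer_iff.mp (hHC hlH) v).mp (hVC hv)
        exact Subgroup.mul_mem _ h6 (Subgroup.inv_mem _ (hVC hv))
      have hcQ : l * v * l⁻¹ * v⁻¹ ∈ Q₀ := hCLQ₀ ⟨hcL, hcC⟩
      obtain ⟨c, hcdef⟩ : ∃ c : G, c = l * v * l⁻¹ * v⁻¹ := ⟨_, rfl⟩
      rw [← hcdef] at hcQ
      have hlv : l * v * l⁻¹ = c * v := by rw [hcdef]; group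
      have hcomm : Commute c v :=
        (Subgroup.mem_centralizer_iff.mp (hVC hv) c hcQ)
      have hvn : v ^ Nat.card W = 1 := by
        have h6 := Subtype.ext_iff.mp (pow_card_eq_one' (G := W) (x := ⟨v, hVW hv⟩))
        simpa only [Subgroup.coe_pow, Subgroup.coe_one] using h6
      have hcn : c ^ Nat.card W = 1 := by
        have h6 : (l * v * l⁻¹) ^ Nat.card W = 1 := by
          rw [conj_pow, hvn, mul_one, mul_inv_cancel]
        rw [hlv, hcomm.mul_pow, hvn, mul_one] at h6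
        exact h6
      obtain ⟨i, hi⟩ := hQ₀q ⟨c, hcQ⟩
      have hci : c ^ (q ^ i) = 1 := by
        have h6 := Subtype.ext_iff.mp hi
        simpa only [Subgroup.coe_pow, Subgroup.coe_one] using h6
      have hc1 : c = 1 := by
        have h6 : orderOf c ∣ Nat.gcd (Nat.card W) (q ^ i) :=
          Nat.dvd_gcd (orderOf_dvd_of_pow_eq_one hcn) (orderOf_dvd_of_pow_eq_one hci)
        have h7 : Nat.gcd (Nat.card W) (q ^ i) = 1 := Nat.Coprime.pow_right i hWq
        rw [h7, Nat.dvd_one, orderOf_eq_one_iff] at h6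
        exact h6
      rw [hlv, hc1, one_mul]
      exact hv
    have hHV : H ≤ Subgroup.normalizer (V : Set G) := by
      rw [← hsup]
      exact sup_le hV2 hV1
    have hVq : (Nat.card V).Coprime q :=
      Nat.Coprime.coprime_dvd_left (Subgroup.card_dvd_of_le hVW) hWq
    have hVbot := hOq V (hVW.trans hWH) hHV hVq
    rw [eq_bot_iff]
    intro g hg
    have h6 : g ∈ V := by
      rw [hVdef]
      exact ⟨hg.2, hXC hg.1⟩
    rw [hVbot] at h6
    exact h6

end Cfsg.Agent.Lib.Helper5.CoprimeCore
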