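import Mathlib
import Cfsg.Prelude.Def_Solvable
import Cfsg.Agent.Lib.Helper1.Hall
import Cfsg.Agent.Lib.Helper7.Balance
import Cfsg.Agent.Lib.Helper5.CoprimeCore.Core

/-!
# Cores of centralizers under a coprime operator group: reduction to the core-free case

We pass to the quotient by the largest normal `q'`-subgroup `N` of `H` and apply `core_lemma`.
-/

set_option autoImplicit false

namespace Cfsg.Agent.Lib.Helper5.CoprimeCore

open Cfsg
open scoped commutatorElement

universe u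

variable {G : Type u} [Group G]

/-- lifting an element of `H` whose image centralizes the image of a `p`-group `P`, modulo a
normal `p'`-subgroup `N ≤ H` -/
theorem exists_lift_centralizer [Finite G] (p : ℕ) [Fact p.Prime] (H N P : Subgroup G)
    [hNn : N.Normal] (hNH : N ≤ H) (hN : (Nat.card N).Coprime p) (hP : IsPGroup p P)
    (h : G) (hh : h ∈ H)
    (hc : (QuotientGroup.mk' N h) ∈ Subgroup.centralizer
      ((P.map (QuotientGroup.mk' N) : Subgroup (G ⧸ N)) : Set (G ⧸ N))) :
    ∃ c ∈ H ⊓ Subgroup.centralizer (P : Set G), QuotientGroup.mk' N c = QuotientGroup.mk' N h := by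
  set π := QuotientGroup.mk' N with hπ
  have hh' : ∀ a ∈ P, h⁻¹ * a * h * a⁻¹ ∈ N := by
    intro a ha
    have h1 : π a * π h = π h * π a :=
      (Subgroup.mem_centralizer_iff.mp hc) (π a) ⟨a, ha, rfl⟩
    rw [← QuotientGroup.eq_one_iff]
    have : ((h⁻¹ * a * h * a⁻¹ : G) : G ⧸ N) = (π h)⁻¹ * π a * π h * (π a)⁻¹ := by
      simp [hπ]
    rw [this, mul_assoc (π h)⁻¹, h1]
    group
  obtain ⟨c, hcc, d, hd, rfl⟩ :=
    Cfsg.Agent.Lib.Helper7.exists_mul_of_centralizes_mod p N hN P hP h hh'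
  have hπd : π d = 1 := by
    rw [hπ, QuotientGroup.mk'_apply, QuotientGroup.eq_one_iff]; exact hd
  refine ⟨c, ⟨?_, hcc⟩, ?_⟩
  · have : c = (c * d) * d⁻¹ := by group
    rw [this]
    exact H.mul_mem hh (H.inv_mem (hNH hd))
  · rw [map_mul, hπd, mul_one]

theorem quot_lemma [Finite G] (p q : ℕ) [hp : Fact p.Prime] [hq : Fact q.Prime]
    (H P : Subgroup G) [hHn : H.Normal] (hP : IsPGroup p P)
    (hH : (Nat.card H).Coprime p) (hL : Group.IsSolvable ↥⁅H, P⁆)
    (z : G) (hzH : z ∈ H) (hz : ∃ k : ℕ, orderOf z = q ^ k)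
    (N : Subgroup G) [hNn : N.Normal] (hNH : N ≤ H) (hNq : (Nat.card N).Coprime q)
    (hmax : ∀ M : Subgroup G, M ≤ H → H ≤ Subgroup.normalizer (M : Set G) →
      (Nat.card M).Coprime q → M ≤ N)
    (X : Subgroup G) (hXH : X ≤ H) (hXz : X ≤ Subgroup.centralizer ({z} : Set G))
    (hXn : H ⊓ Subgroup.centralizer ({z} : Set G) ≤ Subgroup.normalizer (X : Set G))
    (hXq : (Nat.card X).Coprime q)
    (hXP : P ≤ Subgroup.normalizer (X : Set G))
    (W : Subgroup G) (hWH : W ≤ H)
    (hWn : H ⊓ Subgroup.centralizer (P : Set G) ≤ Subgroup.normalizer (W : Set G))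
    (hWq : (Nat.card W).Coprime q) :
    (X ⊓ W) ⊔ ⁅X, P⁆ ≤ N := by
  classical
  set π := QuotientGroup.mk' N with hπ
  have hπs : Function.Surjective π := QuotientGroup.mk'_surjective N
  have hNp : (Nat.card N).Coprime p :=
    Nat.Coprime.coprime_dvd_left (Subgroup.card_dvd_of_le hNH) hH
  have hHbn : (H.map π).Normal := Subgroup.Normal.map hHn π hπs
  -- hypotheses in the quotient
  have hPH' : P.map π ≤ Subgroup.normalizer ((H.map π : Subgroup (G ⧸ N)) : Set (G ⧸ N)) := by
    rw [Subgroup.normalizer_eq_top]; exact le_top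
  have hP' : IsPGroup p (P.map π) := hP.map π
  have hH' : (Nat.card (H.map π)).Coprime p :=
    Nat.Coprime.coprime_dvd_left (Subgroup.card_map_dvd H π) hH
  have hL' : Group.IsSolvable ↥⁅H.map π, P.map π⁆ := by
    rw [← Subgroup.map_commutator]
    have := hL
    exact Group.isSolvable_of_surjective (MonoidHom.subgroupMap_surjective π ⁅H, P⁆)
  have hzH' : π z ∈ H.map π := Subgroup.mem_map_of_mem π hzH
  have hz' : ∃ k : ℕ, orderOf (π z) = q ^ k := by
    obtain ⟨k, hk⟩ := hz
    have hd : orderOf (π z) ∣ q ^ k := hk ▸ orderOf_map_dvd π z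
    obtain ⟨j, _, hj⟩ := (Nat.dvd_prime_pow hq.out).mp hd
    exact ⟨j, hj⟩
  have hOq' : ∀ M : Subgroup (G ⧸ N), M ≤ H.map π →
      H.map π ≤ Subgroup.normalizer (M : Set (G ⧸ N)) → (Nat.card M).Coprime q → M = ⊥ := by
    intro M hMH hMn hMq
    have h1 : M.comap π ≤ H := by
      have : M.comap π ≤ (H.map π).comap π := Subgroup.comap_mono hMH
      rw [Subgroup.comap_map_eq, hπ, QuotientGroup.ker_mk', sup_eq_left.mpr hNH] at this
      exact this
    have h2 : H ≤ Subgroup.normalizer ((M.comap π : Subgroup G) : Set G) := by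
      refine le_trans ?_ (Subgroup.le_normalizer_comap π)
      intro h hh
      exact hMn (Subgroup.mem_map_of_mem π hh)
    have h3 : (Nat.card (M.comap π)).Coprime q := by
      rw [hπ, Cfsg.Agent.Lib.Helper1.card_comap_mk' N M]
      exact Nat.Coprime.mul_left hNq hMq
    have h4 := hmax _ h1 h2 h3
    rw [eq_bot_iff, ← Subgroup.map_comap_eq_self_of_surjective hπs M]
    refine (Subgroup.map_mono h4).trans ?_
    rw [hπ, QuotientGroup.map_mk'_self]
  have hXH' : X.map π ≤ H.map π := Subgroup.map_mono hXH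
  have hXz' : X.map π ≤ Subgroup.centralizer ({π z} : Set (G ⧸ N)) := by
    rintro _ ⟨x, hx, rfl⟩
    rw [Subgroup.mem_centralizer_iff]
    intro y hy
    rw [Set.mem_singleton_iff] at hy
    subst hy
    rw [← map_mul, ← map_mul, (Subgroup.mem_centralizer_iff.mp (hXz hx)) z rfl]
  have hzq : IsPGroup q (Subgroup.zpowers z) := by
    obtain ⟨k, hk⟩ := hz
    rw [IsPGroup.iff_card, Nat.card_zpowers]
    exact ⟨k, hk⟩
  have hXn' : H.map π ⊓ Subgroup.centralizer ({π z} : Set (G ⧸ N)) ≤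
      Subgroup.normalizer ((X.map π : Subgroup (G ⧸ N)) : Set (G ⧸ N)) := by
    rintro _ ⟨⟨h, hh, rfl⟩, hc⟩
    have hc' : π h ∈ Subgroup.centralizer
        (((Subgroup.zpowers z).map π : Subgroup (G ⧸ N)) : Set (G ⧸ N)) := by
      rw [Subgroup.mem_centralizer_iff]
      rintro _ ⟨a, ha, rfl⟩
      obtain ⟨n, rfl⟩ := Subgroup.mem_zpowers_iff.mp ha
      have h0 : π z * π h = π h * π z := (Subgroup.mem_centralizer_iff.mp hc) (π z) rfl
      rw [map_zpow]
      exact ((Commute.zpow_left (show Commute (π z) (π h) from h0) n)).eq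
    obtain ⟨c, hcm, hce⟩ := exists_lift_centralizer q H N (Subgroup.zpowers z) hNH hNq hzq h hh hc'
    rw [← hce]
    have hcz : c ∈ H ⊓ Subgroup.centralizer ({z} : Set G) := by
      refine ⟨hcm.1, ?_⟩
      refine Subgroup.mem_centralizer_iff.mpr ?_
      intro y hy
      rw [Set.mem_singleton_iff] at hy
      subst hy
      exact (Subgroup.mem_centralizer_iff.mp hcm.2) y (Subgroup.mem_zpowers y)
    exact Subgroup.le_normalizer_map π (Subgroup.mem_map_of_mem π (hXn hcz))
  have hXq' : (Nat.card (X.map π)).Coprime q :=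
    Nat.Coprime.coprime_dvd_left (Subgroup.card_map_dvd X π) hXq
  have hWH' : W.map π ≤ H.map π := Subgroup.map_mono hWH
  have hWn' : H.map π ⊓ Subgroup.centralizer ((P.map π : Subgroup (G ⧸ N)) : Set (G ⧸ N)) ≤
      Subgroup.normalizer ((W.map π : Subgroup (G ⧸ N)) : Set (G ⧸ N)) := by
    rintro _ ⟨⟨h, hh, rfl⟩, hc⟩
    obtain ⟨c, hcm, hce⟩ := exists_lift_centralizer p H N P hNH hNp hP h hh hc
    rw [← hce]
    exact Subgroup.le_normalizer_map π (Subgroup.mem_map_of_mem π (hWn hcm))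
  have hWq' : (Nat.card (W.map π)).Coprime q :=
    Nat.Coprime.coprime_dvd_left (Subgroup.card_map_dvd W π) hWq
  obtain ⟨hA, hB⟩ := core_lemma p q (H.map π) (P.map π) hPH' hP' hH' hL' (π z) hzH' hz' hOq'
    (X.map π) hXH' hXz' hXn' hXq' (W.map π) hWH' hWn' hWq'
  have hker : ∀ g : G, π g = 1 → g ∈ N := by
    intro g hg
    rw [hπ, QuotientGroup.mk'_apply, QuotientGroup.eq_one_iff] at hg
    exact hg
  refine sup_le ?_ ?_
  · intro g hg
    apply hker
    have : π g ∈ X.map π ⊓ W.map π :=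
      ⟨Subgroup.mem_map_of_mem π hg.1, Subgroup.mem_map_of_mem π hg.2⟩
    rw [hB, Subgroup.mem_bot] at this
    exact this
  · intro g hg
    apply hker
    have h1 : g ∈ X := commutator_le_left_of_le_normalizer hXP hg
    have h2 : g ∈ ⁅H, P⁆ := Subgroup.commutator_mono hXH le_rfl hg
    have : π g ∈ X.map π ⊓ ⁅H.map π, P.map π⁆ := by
      refine ⟨Subgroup.mem_map_of_mem π h1, ?_⟩
      rw [← Subgroup.map_commutator]
      exact Subgroup.mem_map_of_mem π h2
    rw [hA, Subgroup.mem_bot] at this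
    exact this

end Cfsg.Agent.Lib.Helper5.CoprimeCore
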