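import Mathlib
import Cfsg.Prelude.Def_Solvable
import Cfsg.Agent.Lib.Helper1.SZHelpers
import Cfsg.Agent.Lib.Helper1.Coprime
import Cfsg.Agent.Lib.Helper1.FrattiniAction
import Cfsg.Agent.Lib.Helper2.Cores
import Cfsg.Agent.Lib.Helper5.CoprimeCore.Quot

/-!
# Cores of centralizers under a coprime operator group: the statement with `p'`-cores
-/

set_option autoImplicit false

namespace Cfsg.Agent.Lib.Helper5.CoprimeCore

open Cfsg
open scoped commutatorElement

universe u

variable {G : Type u} [Group G]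

theorem main_lemma [Finite G] (p q : ℕ) [hp : Fact p.Prime] [hq : Fact q.Prime]
    (H P : Subgroup G) [hHn : H.Normal] (hP : IsPGroup p P)
    (hH : (Nat.card H).Coprime p) (hL : Group.IsSolvable ↥⁅H, P⁆)
    (z : G) (hzH : z ∈ H) (hzP : z ∈ Subgroup.centralizer (P : Set G))
    (hz : ∃ k : ℕ, orderOf z = q ^ k) :
    ((Cfsg.pPrimeCore q ↥(H ⊓ Subgroup.centralizer ({z} : Set G))).map
        (H ⊓ Subgroup.centralizer ({z} : Set G)).subtype ⊓
      (Cfsg.pPrimeCore q ↥(H ⊓ Subgroup.centralizer (P : Set G))).map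
        (H ⊓ Subgroup.centralizer (P : Set G)).subtype) ⊔
    ⁅(Cfsg.pPrimeCore q ↥(H ⊓ Subgroup.centralizer ({z} : Set G))).map
        (H ⊓ Subgroup.centralizer ({z} : Set G)).subtype, P⁆ ≤
    (Cfsg.pPrimeCore q ↥H).map H.subtype := by
  classical
  have hHtop : Subgroup.normalizer (H : Set G) = ⊤ := Subgroup.normalizer_eq_top_iff.mpr hHn
  -- `N = O_{q'}(H)`
  have hcharN : (pPrimeCore q ↥H).Characteristic :=
    Cfsg.Agent.Lib.Helper2.pPrimeCore_characteristic q
  have hNn : ((pPrimeCore q ↥H).map H.subtype).Normal := by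
    rw [← Subgroup.normalizer_eq_top_iff, eq_top_iff, ← hHtop]
    exact Cfsg.Agent.Lib.Helper1.normalizer_le_normalizer_map_characteristic H (pPrimeCore q ↥H)
  have hNH : (pPrimeCore q ↥H).map H.subtype ≤ H := Subgroup.map_subtype_le _
  have hNq : (Nat.card ((pPrimeCore q ↥H).map H.subtype)).Coprime q := by
    rw [Subgroup.card_map_of_injective H.subtype_injective]
    exact Cfsg.Agent.Lib.Helper2.pPrimeCore_card_coprime q
  have hmax : ∀ M : Subgroup G, M ≤ H → H ≤ Subgroup.normalizer (M : Set G) →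
      (Nat.card M).Coprime q → M ≤ (pPrimeCore q ↥H).map H.subtype := by
    intro M hMH hMn hMq
    have h1 : (M.subgroupOf H).Normal :=
      (Subgroup.normal_subgroupOf_iff_le_normalizer hMH).mpr hMn
    have h2 : (Nat.card (M.subgroupOf H)).Coprime q := by
      rw [Cfsg.Agent.Lib.Helper1.card_subgroupOf_of_le hMH]; exact hMq
    have h3 : M.subgroupOf H ≤ pPrimeCore q ↥H := Cfsg.Agent.Lib.Helper2.le_pPrimeCore h2
    rw [← Subgroup.map_subgroupOf_eq_of_le hMH]
    exact Subgroup.map_mono h3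
  -- `X = O_{q'}(C_H(z))`
  obtain ⟨Kz, hKz⟩ : ∃ K : Subgroup G, K = H ⊓ Subgroup.centralizer ({z} : Set G) := ⟨_, rfl⟩
  obtain ⟨KP, hKP⟩ : ∃ K : Subgroup G, K = H ⊓ Subgroup.centralizer (P : Set G) := ⟨_, rfl⟩
  rw [← hKz, ← hKP]
  have hcharX : (pPrimeCore q ↥Kz).Characteristic :=
    Cfsg.Agent.Lib.Helper2.pPrimeCore_characteristic q
  have hcharW : (pPrimeCore q ↥KP).Characteristic :=
    Cfsg.Agent.Lib.Helper2.pPrimeCore_characteristic q
  have hXK : (pPrimeCore q ↥Kz).map Kz.subtype ≤ Kz := Subgroup.map_subtype_le _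
  have hWK : (pPrimeCore q ↥KP).map KP.subtype ≤ KP := Subgroup.map_subtype_le _
  have hXH : (pPrimeCore q ↥Kz).map Kz.subtype ≤ H := hXK.trans (hKz ▸ inf_le_left)
  have hXz : (pPrimeCore q ↥Kz).map Kz.subtype ≤ Subgroup.centralizer ({z} : Set G) :=
    hXK.trans (hKz ▸ inf_le_right)
  have hXn : H ⊓ Subgroup.centralizer ({z} : Set G) ≤
      Subgroup.normalizer (((pPrimeCore q ↥Kz).map Kz.subtype : Subgroup G) : Set G) := by
    rw [← hKz]
    exact Subgroup.le_normalizer.trans
      (Cfsg.Agent.Lib.Helper1.normalizer_le_normalizer_map_characteristic Kz (pPrimeCore q ↥Kz))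
  have hXq : (Nat.card ((pPrimeCore q ↥Kz).map Kz.subtype)).Coprime q := by
    rw [Subgroup.card_map_of_injective Kz.subtype_injective]
    exact Cfsg.Agent.Lib.Helper2.pPrimeCore_card_coprime q
  have hPz : P ≤ Subgroup.centralizer ({z} : Set G) := by
    intro a ha
    refine Subgroup.mem_centralizer_iff.mpr ?_
    intro y hy
    rw [Set.mem_singleton_iff] at hy
    subst hy
    exact ((Subgroup.mem_centralizer_iff.mp hzP) a ha).symm
  have hXP : P ≤ Subgroup.normalizer (((pPrimeCore q ↥Kz).map Kz.subtype : Subgroup G) : Set G) := by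
    have h1 : P ≤ Subgroup.normalizer (Kz : Set G) := by
      rw [hKz]
      refine Cfsg.Agent.Lib.Helper1.le_normalizer_inf ?_ ?_
      · rw [hHtop]; exact le_top
      · exact hPz.trans Subgroup.le_normalizer
    exact h1.trans
      (Cfsg.Agent.Lib.Helper1.normalizer_le_normalizer_map_characteristic Kz (pPrimeCore q ↥Kz))
  have hWH : (pPrimeCore q ↥KP).map KP.subtype ≤ H := hWK.trans (hKP ▸ inf_le_left)
  have hWn : H ⊓ Subgroup.centralizer (P : Set G) ≤
      Subgroup.normalizer (((pPrimeCore q ↥KP).map KP.subtype : Subgroup G) : Set G) := by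
    rw [← hKP]
    exact Subgroup.le_normalizer.trans
      (Cfsg.Agent.Lib.Helper1.normalizer_le_normalizer_map_characteristic KP (pPrimeCore q ↥KP))
  have hWq : (Nat.card ((pPrimeCore q ↥KP).map KP.subtype)).Coprime q := by
    rw [Subgroup.card_map_of_injective KP.subtype_injective]
    exact Cfsg.Agent.Lib.Helper2.pPrimeCore_card_coprime q
  exact quot_lemma p q H P hP hH hL z hzH hz _ hNH hNq hmax _ hXH hXz hXn hXq hXP _ hWH hWn hWq

end Cfsg.Agent.Lib.Helper5.CoprimeCore
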